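import Mathlib

/-!
# S2478 (class number of GL_n(q)): shared definitions for the piece project

`N q a`  : number of monic polynomials of degree `a` over `F_q` with nonzero constant term.
`A q r n`: number of tuples `(h_1, …, h_r)` of such polynomials with `∑ m * deg h_m = n`.
`T F r n`: the set of such tuples, as functions `ℕ → F[X]` equal to `1` outside `1..r`.
-/

set_option autoImplicit false

namespace Cfsg.Agent.S2478P

open Polynomial

/-- number of monic polynomials of degree `a` over a field with `q` elements with nonzero constant
term. -/
def N (q a : ℕ) : ℕ := if a = 0 then 1 else q ^ a - q ^ (a - 1)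

/-- number of tuples `(h_1, …, h_r)`, `h_m` monic with nonzero constant term over a field with `q`
elements, `∑ m * deg h_m = n`. -/
def A (q : ℕ) : ℕ → ℕ → ℕ
  | 0, n => if n = 0 then 1 else 0
  | (r + 1), n => ∑ a ∈ Finset.range (n / (r + 1) + 1), N q a * A q r (n - (r + 1) * a)

/-- the set of tuples `(h_1, …, h_r)` (functions `ℕ → F[X]`, equal to `1` off `1..r`), `h_m` monic
with nonzero constant term, `∑ m * deg h_m = n`. -/
def T (F : Type*) [Field F] (r n : ℕ) : Set (ℕ → F[X]) :=
  {h | (∀ m, (h m).Monic ∧ (h m).coeff 0 ≠ 0) ∧ (∀ m, (m = 0 ∨ r < m) → h m = 1) ∧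
    ∑ m ∈ Finset.range (r + 1), m * (h m).natDegree = n}

/-- The equation lemmas of `N`, `A` and `T` that Lean writes on demand are cited here once, so that
they live in this file and not (as separate copies) in each file that unfolds `N`, `A` or `T`. -/
theorem eqns_realized : True := by
  have := @N.eq_1
  have := @N.eq_def
  have := @A.eq_1
  have := @A.eq_2
  have := @A.eq_def
  have := @T.eq_1.{0}
  have := @T.eq_def.{0}
  trivial

end Cfsg.Agent.S2478P
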