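import Mathlib
import Cfsg.Agent.Helper14.GLk.Defs

/-!
# S2478 piece CONJ: equal primary types give conjugate matrices
-/

set_option autoImplicit false

namespace Cfsg.Agent.S2478P

open Polynomial DirectSum

universe u

namespace CONJ

/-- two finite families with equal fibre cardinalities are related by a bijection of index sets -/
theorem exists_equiv_of_card_fiber {α β γ : Type*} [Finite α] [Finite β] (f : α → γ) (g : β → γ)
    (h : ∀ t : γ, Nat.card {a // f a = t} = Nat.card {b // g b = t}) :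
    ∃ σ : α ≃ β, ∀ a, g (σ a) = f a := by
  have h' : ∀ t : γ, Nonempty ({a // f a = t} ≃ {b // g b = t}) := fun t => Finite.card_eq.1 (h t)
  choose E _ using fun t => (⟨(h' t).some, trivial⟩ : ∃ _ : {a // f a = t} ≃ {b // g b = t}, True)
  exact ⟨Equiv.ofFiberEquiv E, fun a => Equiv.ofFiberEquiv_map E a⟩

/-- a module isomorphism between the `F[X]`-modules of two matrices gives a conjugating matrix -/
theorem isConj_of_equiv {F : Type u} [Field F] (n : ℕ)
    (g g' : Matrix.GeneralLinearGroup (Fin n) F)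
    (Ψ : Module.AEval' (Matrix.toLin' (g : Matrix (Fin n) (Fin n) F)) ≃ₗ[F[X]]
      Module.AEval' (Matrix.toLin' (g' : Matrix (Fin n) (Fin n) F))) :
    IsConj g g' := by
  classical
  set f := Matrix.toLin' (g : Matrix (Fin n) (Fin n) F) with hf
  set f' := Matrix.toLin' (g' : Matrix (Fin n) (Fin n) F) with hf'
  let ψ : (Fin n → F) ≃ₗ[F] (Fin n → F) :=
    (Module.AEval'.of f).trans ((Ψ.restrictScalars F).trans (Module.AEval'.of f').symm)
  have hψ : ∀ v, ψ (f v) = f' (ψ v) := by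
    intro v
    show (Module.AEval'.of f').symm (Ψ (Module.AEval'.of f (f v))) =
      f' ((Module.AEval'.of f').symm (Ψ (Module.AEval'.of f v)))
    rw [← Module.AEval'.X_smul_of, map_smul, Module.AEval'.of_symm_X_smul]
  have hcomp : ψ.toLinearMap ∘ₗ f = f' ∘ₗ ψ.toLinearMap := by
    refine LinearMap.ext (fun v => ?_)
    exact hψ v
  set P := LinearMap.toMatrix' ψ.toLinearMap with hP
  set Q := LinearMap.toMatrix' ψ.symm.toLinearMap with hQ
  have hPQ : P * Q = 1 := by
    rw [hP, hQ, ← LinearMap.toMatrix'_comp]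
    have : ψ.toLinearMap ∘ₗ ψ.symm.toLinearMap = LinearMap.id := by
      refine LinearMap.ext (fun v => ?_)
      simp
    rw [this, LinearMap.toMatrix'_id]
  have hQP : Q * P = 1 := by
    rw [hP, hQ, ← LinearMap.toMatrix'_comp]
    have : ψ.symm.toLinearMap ∘ₗ ψ.toLinearMap = LinearMap.id := by
      refine LinearMap.ext (fun v => ?_)
      simp
    rw [this, LinearMap.toMatrix'_id]
  have hPg : P * (g : Matrix (Fin n) (Fin n) F) = (g' : Matrix (Fin n) (Fin n) F) * P := by
    have := congrArg LinearMap.toMatrix' hcomp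
    rw [LinearMap.toMatrix'_comp, LinearMap.toMatrix'_comp, hf, hf',
      LinearMap.toMatrix'_toLin', LinearMap.toMatrix'_toLin'] at this
    exact this
  let u : Matrix.GeneralLinearGroup (Fin n) F := ⟨P, Q, hPQ, hQP⟩
  refine isConj_iff.2 ⟨u, ?_⟩
  have hug : u * g = g' * u := by
    apply Units.ext
    exact hPg
  rw [hug, mul_inv_cancel_right]

end CONJ

theorem isConj_of_decomp {F : Type u} [Field F] (n : ℕ)
    (g g' : Matrix.GeneralLinearGroup (Fin n) F)
    {ι ι' : Type u} [Fintype ι] [Fintype ι'] (p : ι → F[X]) (e : ι → ℕ) (p' : ι' → F[X])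
    (e' : ι' → ℕ)
    (Φ : Nonempty (Module.AEval' (Matrix.toLin' (g : Matrix (Fin n) (Fin n) F)) ≃ₗ[F[X]]
        ⨁ i, F[X] ⧸ Submodule.span F[X] {p i ^ e i}))
    (Φ' : Nonempty (Module.AEval' (Matrix.toLin' (g' : Matrix (Fin n) (Fin n) F)) ≃ₗ[F[X]]
        ⨁ i, F[X] ⧸ Submodule.span F[X] {p' i ^ e' i}))
    (hcnt : ∀ t : F[X] × ℕ, Nat.card {i // (p i, e i) = t} = Nat.card {i // (p' i, e' i) = t}) :
    IsConj g g' := by
  classical
  obtain ⟨Φ⟩ := Φ
  obtain ⟨Φ'⟩ := Φ'
  obtain ⟨σ, hσ⟩ := CONJ.exists_equiv_of_card_fiber (fun i => (p i, e i)) (fun j => (p' j, e' j)) hcnt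
  have hσp : ∀ k : ι', p (σ.symm k) = p' k := by
    intro k
    have := hσ (σ.symm k)
    simp only [Equiv.apply_symm_apply, Prod.mk.injEq] at this
    exact this.1.symm
  have hσe : ∀ k : ι', e (σ.symm k) = e' k := by
    intro k
    have := hσ (σ.symm k)
    simp only [Equiv.apply_symm_apply, Prod.mk.injEq] at this
    exact this.2.symm
  let Θ₁ : (⨁ i, F[X] ⧸ Submodule.span F[X] {p i ^ e i}) ≃ₗ[F[X]]
      ⨁ k : ι', F[X] ⧸ Submodule.span F[X] {p (σ.symm k) ^ e (σ.symm k)} :=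
    DirectSum.lequivCongrLeft F[X] σ
  let Θ₂ : (⨁ k : ι', F[X] ⧸ Submodule.span F[X] {p (σ.symm k) ^ e (σ.symm k)}) ≃ₗ[F[X]]
      ⨁ k : ι', F[X] ⧸ Submodule.span F[X] {p' k ^ e' k} :=
    DFinsupp.mapRange.linearEquiv (fun k => Submodule.quotEquivOfEq _ _ (by rw [hσp k, hσe k]))
  exact CONJ.isConj_of_equiv n g g' (((Φ.trans Θ₁).trans Θ₂).trans Φ'.symm)

end Cfsg.Agent.S2478P
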