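import Mathlib
import Cfsg.Agent.Helper14.GLk.Defs
import Cfsg.Agent.Helper15.S2478COUNTMON

/-!
# S2478 piece COUNTT: the number of tuples is `A q r n`
-/

set_option autoImplicit false

namespace Cfsg.Agent.S2478P

open Polynomial DirectSum

universe u

namespace COUNTT

/-- monic polynomials of degree `a` with nonzero constant term -/
abbrev Mon (F : Type u) [Field F] (a : ℕ) : Type u :=
  {f : F[X] // f.Monic ∧ f.natDegree = a ∧ f.coeff 0 ≠ 0}

theorem N_pos (q a : ℕ) (hq : 2 ≤ q) : 0 < N q a := by
  unfold N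
  split_ifs with h
  · exact Nat.one_pos
  · have h1 : q ^ (a - 1) < q ^ a := Nat.pow_lt_pow_right (by omega) (by omega)
    omega

theorem finite_Mon (F : Type u) [Field F] [Fintype F] (a : ℕ) : Finite (Mon F a) := by
  apply Nat.finite_of_card_ne_zero
  rw [card_monic F a]
  exact (N_pos _ a Fintype.one_lt_card).ne'

theorem T_zero (F : Type u) [Field F] (n : ℕ) :
    T F 0 n = if n = 0 then {fun _ => 1} else ∅ := by
  ext h
  constructor
  · rintro ⟨-, h2, h3⟩
    have hh : h = fun _ => 1 := by
      funext m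
      exact h2 m (by omega)
    have : n = 0 := by
      rw [← h3]
      simp
    rw [if_pos this]
    exact hh
  · intro hh
    split_ifs at hh with hn
    · have hh' : h = fun _ => 1 := hh
      subst hh'
      refine ⟨fun m => ⟨monic_one, by simp⟩, fun m _ => rfl, ?_⟩
      simp [hn]
    · exact absurd hh (Set.notMem_empty _)

theorem sum_split {F : Type u} [Field F] (r : ℕ) (h : ℕ → F[X]) :
    ∑ m ∈ Finset.range (r + 1 + 1), m * (h m).natDegree =
      ∑ m ∈ Finset.range (r + 1), m * (h m).natDegree + (r + 1) * (h (r + 1)).natDegree :=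
  Finset.sum_range_succ _ (r + 1)

theorem sum_update {F : Type u} [Field F] (r : ℕ) (h : ℕ → F[X]) (f : F[X]) :
    ∑ m ∈ Finset.range (r + 1), m * (Function.update h (r + 1) f m).natDegree =
      ∑ m ∈ Finset.range (r + 1), m * (h m).natDegree := by
  refine Finset.sum_congr rfl (fun m hm => ?_)
  rw [Function.update_of_ne (by
    have := Finset.mem_range.1 hm
    omega)]

theorem deg_lt {F : Type u} [Field F] {r n : ℕ} {h : ℕ → F[X]} (hh : h ∈ T F (r + 1) n) :
    (h (r + 1)).natDegree < n / (r + 1) + 1 := by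
  have hsum := hh.2.2
  rw [sum_split] at hsum
  rw [Nat.lt_succ_iff, Nat.le_div_iff_mul_le (Nat.succ_pos r), mul_comm]
  show (r + 1) * (h (r + 1)).natDegree ≤ n
  omega

theorem lower_mem {F : Type u} [Field F] {r n : ℕ} {h : ℕ → F[X]} (hh : h ∈ T F (r + 1) n) :
    Function.update h (r + 1) 1 ∈ T F r (n - (r + 1) * (h (r + 1)).natDegree) := by
  refine ⟨fun m => ?_, fun m hm => ?_, ?_⟩
  · by_cases hm : m = r + 1
    · subst hm
      rw [Function.update_self]
      exact ⟨monic_one, by simp⟩
    · rw [Function.update_of_ne hm]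
      exact hh.1 m
  · by_cases hm' : m = r + 1
    · subst hm'
      rw [Function.update_self]
    · rw [Function.update_of_ne hm']
      exact hh.2.1 m (by omega)
  · rw [sum_update]
    have hsum := hh.2.2
    rw [sum_split] at hsum
    omega

theorem upper_mem {F : Type u} [Field F] {r n a : ℕ} (ha : (r + 1) * a ≤ n) {h' : ℕ → F[X]}
    (hh' : h' ∈ T F r (n - (r + 1) * a)) {f : F[X]} (hf : f.Monic ∧ f.natDegree = a ∧ f.coeff 0 ≠ 0) :
    Function.update h' (r + 1) f ∈ T F (r + 1) n := by
  refine ⟨fun m => ?_, fun m hm => ?_, ?_⟩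
  · by_cases hm : m = r + 1
    · subst hm
      rw [Function.update_self]
      exact ⟨hf.1, hf.2.2⟩
    · rw [Function.update_of_ne hm]
      exact hh'.1 m
  · have hm' : m ≠ r + 1 := by omega
    rw [Function.update_of_ne hm']
    exact hh'.2.1 m (by omega)
  · rw [sum_split, Function.update_self, sum_update, hh'.2.2, hf.2.1]
    omega

/-- the fibre equivalence -/
noncomputable def fibre (F : Type u) [Field F] (r n a : ℕ) (ha : (r + 1) * a ≤ n) :
    {h : T F (r + 1) n // ((h : ℕ → F[X]) (r + 1)).natDegree = a} ≃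
      Mon F a × T F r (n - (r + 1) * a) where
  toFun h := (⟨(h.1 : ℕ → F[X]) (r + 1), (h.1.2.1 (r + 1)).1, h.2, (h.1.2.1 (r + 1)).2⟩,
    ⟨Function.update (h.1 : ℕ → F[X]) (r + 1) 1, by
      have := lower_mem h.1.2
      rw [h.2] at this
      exact this⟩)
  invFun x := ⟨⟨Function.update (x.2 : ℕ → F[X]) (r + 1) x.1.1, upper_mem ha x.2.2 x.1.2⟩, by
    show (Function.update (x.2 : ℕ → F[X]) (r + 1) x.1.1 (r + 1)).natDegree = a
    rw [Function.update_self]
    exact x.1.2.2.1⟩
  left_inv h := by
    apply Subtype.ext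
    apply Subtype.ext
    show Function.update (Function.update (h.1 : ℕ → F[X]) (r + 1) 1) (r + 1)
      ((h.1 : ℕ → F[X]) (r + 1)) = h.1
    rw [Function.update_idem, Function.update_eq_self]
  right_inv x := by
    obtain ⟨f, h'⟩ := x
    have h1 : (h' : ℕ → F[X]) (r + 1) = 1 := h'.2.2.1 (r + 1) (by omega)
    apply Prod.ext
    · apply Subtype.ext
      show Function.update (h' : ℕ → F[X]) (r + 1) f.1 (r + 1) = f.1
      rw [Function.update_self]
    · apply Subtype.ext
      show Function.update (Function.update (h' : ℕ → F[X]) (r + 1) f.1) (r + 1) 1 = h'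
      rw [Function.update_idem, ← h1, Function.update_eq_self]

end COUNTT

open COUNTT in
theorem card_T (F : Type u) [Field F] [Fintype F] (r n : ℕ) :
    (T F r n).Finite ∧ Nat.card (T F r n) = A (Fintype.card F) r n := by
  induction r generalizing n with
  | zero =>
    rw [T_zero]
    split_ifs with hn
    · refine ⟨Set.finite_singleton _, ?_⟩
      rw [Nat.card_coe_set_eq, Set.ncard_singleton]
      simp [A, hn]
    · refine ⟨Set.finite_empty, ?_⟩
      rw [Nat.card_coe_set_eq, Set.ncard_empty]
      simp [A, hn]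
  | succ r ih =>
    have hfinT : ∀ m, Finite (T F r m) := fun m => (ih m).1
    have hfinM : ∀ a, Finite (Mon F a) := fun a => finite_Mon F a
    let d : T F (r + 1) n → Fin (n / (r + 1) + 1) := fun h =>
      ⟨((h : ℕ → F[X]) (r + 1)).natDegree, deg_lt h.2⟩
    have hale : ∀ a : Fin (n / (r + 1) + 1), (r + 1) * (a : ℕ) ≤ n := by
      intro a
      have := a.2
      rw [Nat.lt_succ_iff, Nat.le_div_iff_mul_le (Nat.succ_pos r), mul_comm] at this
      exact this
    let E : ∀ a : Fin (n / (r + 1) + 1),
        {h : T F (r + 1) n // d h = a} ≃ Mon F a × T F r (n - (r + 1) * a) := fun a =>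
      (Equiv.subtypeEquivRight (fun h => by
        show d h = a ↔ ((h : ℕ → F[X]) (r + 1)).natDegree = (a : ℕ)
        exact Fin.ext_iff)).trans (fibre F r n a (hale a))
    let E' : T F (r + 1) n ≃ Σ a : Fin (n / (r + 1) + 1), Mon F a × T F r (n - (r + 1) * a) :=
      (Equiv.sigmaFiberEquiv d).symm.trans (Equiv.sigmaCongrRight E)
    have hfin : Finite (T F (r + 1) n) := Finite.of_equiv _ E'.symm
    refine ⟨Set.toFinite _, ?_⟩
    rw [Nat.card_congr E', Nat.card_sigma]
    show _ = ∑ a ∈ Finset.range (n / (r + 1) + 1),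
      N (Fintype.card F) a * A (Fintype.card F) r (n - (r + 1) * a)
    rw [← Fin.sum_univ_eq_sum_range
      (fun a => N (Fintype.card F) a * A (Fintype.card F) r (n - (r + 1) * a))]
    refine Finset.sum_congr rfl (fun a _ => ?_)
    rw [Nat.card_prod, card_monic F a, (ih _).2]

end Cfsg.Agent.S2478P
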