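import Mathlib
import Cfsg.Agent.Helper14.GLk.Defs

/-!
# S2478 piece MOD: primary decomposition of the `F[X]`-module of an invertible matrix
-/

set_option autoImplicit false

namespace Cfsg.Agent.S2478P

open Polynomial DirectSum

universe u

namespace MOD

/-- dropping trivial summands from a direct sum -/
theorem dropTrivial {R : Type*} [CommRing R] {ι₀ : Type*} [DecidableEq ι₀] (N : ι₀ → Type*)
    [∀ i, AddCommGroup (N i)] [∀ i, Module R (N i)] (P : ι₀ → Prop) [DecidablePred P]
    (hN : ∀ i, ¬ P i → Subsingleton (N i)) :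
    Nonempty ((⨁ i, N i) ≃ₗ[R] ⨁ j : {i // P i}, N j.val) := by
  let tof : (⨁ i, N i) →ₗ[R] ⨁ j : {i // P i}, N j.val :=
    DirectSum.toModule R ι₀ _ (fun i =>
      if h : P i then DirectSum.lof R {i // P i} (fun j => N j.val) ⟨i, h⟩ else 0)
  let fr : (⨁ j : {i // P i}, N j.val) →ₗ[R] ⨁ i, N i :=
    DirectSum.toModule R {i // P i} _ (fun j => DirectSum.lof R ι₀ N j.val)
  refine ⟨LinearEquiv.ofLinearMap tof fr ?_ ?_⟩
  · apply DirectSum.linearMap_ext
    intro j
    ext x
    simp only [LinearMap.comp_apply, LinearMap.id_apply, tof, fr, DirectSum.toModule_lof]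
    rw [dif_pos j.2]
  · apply DirectSum.linearMap_ext
    intro i
    ext x
    simp only [LinearMap.comp_apply, LinearMap.id_apply, tof, fr, DirectSum.toModule_lof]
    by_cases h : P i
    · rw [dif_pos h]
      simp only [DirectSum.toModule_lof]
    · rw [dif_neg h]
      have := hN i h
      rw [Subsingleton.elim x 0]
      simp

/-- normalizing the generators and dropping the zero exponents -/
theorem normalize_family {F : Type u} [Field F] {ι₀ : Type u} [Fintype ι₀] (p₀ : ι₀ → F[X])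
    (hp₀ : ∀ i, Irreducible (p₀ i)) (e₀ : ι₀ → ℕ) :
    ∃ (ι : Type u) (_ : Fintype ι) (p : ι → F[X]) (e : ι → ℕ),
      (∀ i, (p i).Monic ∧ Irreducible (p i) ∧ 1 ≤ e i) ∧
      Nonempty ((⨁ i, F[X] ⧸ Submodule.span F[X] {p₀ i ^ e₀ i}) ≃ₗ[F[X]]
        ⨁ i, F[X] ⧸ Submodule.span F[X] {p i ^ e i}) := by
  classical
  refine ⟨{i // e₀ i ≠ 0}, inferInstance, fun j => normalize (p₀ j.val), fun j => e₀ j.val,
    ?_, ?_⟩
  · intro j
    refine ⟨Polynomial.monic_normalize (hp₀ j.val).ne_zero, ?_, Nat.one_le_iff_ne_zero.2 j.2⟩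
    exact (associated_normalize (p₀ j.val)).irreducible (hp₀ j.val)
  · obtain ⟨Ψ⟩ := dropTrivial (R := F[X])
      (fun i => F[X] ⧸ Submodule.span F[X] {p₀ i ^ e₀ i}) (fun i => e₀ i ≠ 0) (by
        intro i hi
        have hi' : e₀ i = 0 := not_not.1 hi
        have : Submodule.span F[X] {p₀ i ^ e₀ i} = ⊤ := by
          rw [hi', pow_zero]
          exact Ideal.span_singleton_one
        rw [this]
        exact Submodule.Quotient.subsingleton_iff.2 rfl)
    have hspan : ∀ j : {i // e₀ i ≠ 0},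
        Submodule.span F[X] {p₀ j.val ^ e₀ j.val} =
          Submodule.span F[X] {normalize (p₀ j.val) ^ e₀ j.val} := by
      intro j
      exact Ideal.span_singleton_eq_span_singleton.2
        ((associated_normalize (p₀ j.val)).pow_pow)
    let Θ : (⨁ j : {i // e₀ i ≠ 0}, F[X] ⧸ Submodule.span F[X] {p₀ j.val ^ e₀ j.val}) ≃ₗ[F[X]]
        ⨁ j : {i // e₀ i ≠ 0}, F[X] ⧸ Submodule.span F[X] {normalize (p₀ j.val) ^ e₀ j.val} :=
      DFinsupp.mapRange.linearEquiv (fun j => Submodule.quotEquivOfEq _ _ (hspan j))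
    exact ⟨Ψ.trans Θ⟩

end MOD

theorem exists_decomp {F : Type u} [Field F] [Fintype F] (n : ℕ)
    (g : Matrix.GeneralLinearGroup (Fin n) F) :
    ∃ (ι : Type u) (_ : Fintype ι) (p : ι → F[X]) (e : ι → ℕ),
      (∀ i, (p i).Monic ∧ Irreducible (p i) ∧ p i ≠ X ∧ 1 ≤ e i) ∧
      ∑ i, e i * (p i).natDegree = n ∧
      Nonempty (Module.AEval' (Matrix.toLin' (g : Matrix (Fin n) (Fin n) F)) ≃ₗ[F[X]]
        ⨁ i, F[X] ⧸ Submodule.span F[X] {p i ^ e i}) := by
  classical
  have hM : Module.IsTorsion F[X]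
      (Module.AEval' (Matrix.toLin' (g : Matrix (Fin n) (Fin n) F))) :=
    Module.AEval.isTorsion_of_finiteDimensional F _ _
  obtain ⟨ι₀, _, p₀, hp₀, e₀, ⟨Φ₀⟩⟩ := Module.equiv_directSum_of_isTorsion hM
  obtain ⟨ι, fι, p, e, hpe, ⟨Ψ⟩⟩ := MOD.normalize_family p₀ hp₀ e₀
  let Φ := Φ₀.trans Ψ
  have hinj : Function.Injective (Matrix.toLin' (g : Matrix (Fin n) (Fin n) F)) := by
    intro v w hvw
    have h1 : (↑(g⁻¹) : Matrix (Fin n) (Fin n) F).mulVec
        ((g : Matrix (Fin n) (Fin n) F).mulVec v) =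
        (↑(g⁻¹) : Matrix (Fin n) (Fin n) F).mulVec
        ((g : Matrix (Fin n) (Fin n) F).mulVec w) := by
      have := hvw
      simp only [Matrix.toLin'_apply] at this
      rw [this]
    simpa [Matrix.mulVec_mulVec] using h1
  refine ⟨ι, fι, p, e, ?_, ?_, ⟨Φ⟩⟩
  · intro i
    refine ⟨(hpe i).1, (hpe i).2.1, ?_, (hpe i).2.2⟩
    intro hX
    have hei : 1 ≤ e i := (hpe i).2.2
    set y : F[X] ⧸ Submodule.span F[X] {p i ^ e i} := Submodule.Quotient.mk (X ^ (e i - 1))
      with hy
    set x := Φ.symm (DirectSum.lof F[X] ι (fun i => F[X] ⧸ Submodule.span F[X] {p i ^ e i}) i y)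
      with hx
    have hXy : (X : F[X]) • y = 0 := by
      rw [hy, ← Submodule.Quotient.mk_smul, Submodule.Quotient.mk_eq_zero, smul_eq_mul,
        ← pow_succ', Nat.sub_add_cancel hei, hX]
      exact Submodule.mem_span_singleton_self _
    have hXx : (X : F[X]) • x = 0 := by
      rw [hx, ← map_smul, ← map_smul, hXy, map_zero, map_zero]
    have hx0 : x = 0 := by
      have h1 := Module.AEval'.of_symm_X_smul
        (φ := Matrix.toLin' (g : Matrix (Fin n) (Fin n) F)) x
      rw [hXx, map_zero] at h1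
      have h2 := hinj (h1.symm.trans (map_zero _).symm)
      exact (LinearEquiv.map_eq_zero_iff _).1 h2
    have hy0 : y = 0 := by
      have h1 : Φ x = 0 := by rw [hx0, map_zero]
      rw [hx, LinearEquiv.apply_symm_apply] at h1
      have h2 := congrArg (fun z => z i) h1
      simpa [DirectSum.lof_eq_of] using h2
    rw [hy, Submodule.Quotient.mk_eq_zero] at hy0
    have hdvd : (X : F[X]) ^ e i ∣ X ^ (e i - 1) := by
      have := Ideal.mem_span_singleton.1 hy0
      rwa [hX] at this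
    have := (pow_dvd_pow_iff (X_ne_zero (R := F)) not_isUnit_X).1 hdvd
    omega
  · have hfin : ∀ i, Module.Finite F (F[X] ⧸ Submodule.span F[X] {p i ^ e i}) :=
      fun i => ((hpe i).1.pow (e i)).finite_adjoinRoot
    have h1 : Module.finrank F (⨁ i, F[X] ⧸ Submodule.span F[X] {p i ^ e i}) =
        ∑ i, e i * (p i).natDegree := by
      rw [Module.finrank_directSum]
      refine Finset.sum_congr rfl (fun i _ => ?_)
      rw [finrank_quotient_span_eq_natDegree' ((hpe i).1.pow (e i)),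
        Polynomial.natDegree_pow]
    have h2 : Module.finrank F
        (Module.AEval' (Matrix.toLin' (g : Matrix (Fin n) (Fin n) F))) = n := by
      rw [← (Module.AEval'.of (Matrix.toLin' (g : Matrix (Fin n) (Fin n) F))).finrank_eq]
      simp
    rw [← h1, ← h2]
    exact ((Φ.restrictScalars F).finrank_eq).symm

end Cfsg.Agent.S2478P
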